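import Groth.Agent.Lib.Helper24.Sect.Emb

/-! # The embedding dimension of the section ring of a point, II (helper24) -/

set_option autoImplicit false

namespace Groth.Agent.Lib.Helper24.Sect

open FunFld WithZero Polynomial Groth.Agent.Lib.Helper18.FF W4c6gradedringsgw

universe u v

variable {k : Type u} {K : Type v} [Field k] [Field K] [Algebra k K]

variable (hK : IsFunctionField k K) {P : Place k K} (hP : P.deg = 1) {π : K}
  (hπ : P.1 π = exp (-1 : ℤ))

include hπ in
theorem exists_F : ∃ F : ℕ → K,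
    (∀ n : ℕ, F n ∈ L (Finsupp.single P (n : ℤ) : Divisor k K)) ∧
      ∀ n : ℕ, ¬ IsGap P n → lead hK hP π n (F n) = 1 := by
  classical
  have hex : ∀ n : ℕ, ∃ f : K, f ∈ L (Finsupp.single P (n : ℤ) : Divisor k K) ∧
      (¬ IsGap P n → lead hK hP π n f = 1) := by
    intro n
    by_cases h : IsGap P n
    · exact ⟨0, Submodule.zero_mem _, fun h' => absurd h h'⟩
    · obtain ⟨f, hf, hf1⟩ := exists_lead_one hK hP hπ h
      exact ⟨f, hf, fun _ => hf1⟩
  choose F hF using hex
  exact ⟨F, fun n => (hF n).1, fun n => (hF n).2⟩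

include hK hP hπ in
theorem Rplus_eq_span (F : ℕ → K)
    (hFL : ∀ n : ℕ, F n ∈ L (Finsupp.single P (n : ℤ) : Divisor k K))
    (hF1 : ∀ n : ℕ, ¬ IsGap P n → lead hK hP π n (F n) = 1) :
    Rplus P = Ideal.span (insert (Tx P) ((fun n => mono (hFL n)) '' minGens (poleOrders P))) := by
  set J := Ideal.span (insert (Tx P) ((fun n => mono (hFL n)) '' minGens (poleOrders P))) with hJ
  apply le_antisymm
  · intro p hp
    rw [mem_Rplus_iff] at hp
    have hT : Tx P ∈ J := Ideal.subset_span (Set.mem_insert _ _)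
    have hG : ∀ n ∈ minGens (poleOrders P), mono (hFL n) ∈ J := fun n hn =>
      Ideal.subset_span (Set.mem_insert_of_mem _ ⟨n, hn, rfl⟩)
    have hB := mono_mem_of_gens hK hP hπ J hT F hFL hF1 hG
    have hp_sum : p = ∑ n ∈ p.1.support, mono (mem_sectRing_iff.mp p.2 n) := by
      apply Subtype.ext
      rw [AddSubmonoidClass.coe_finsetSum]
      exact p.1.as_sum_support
    rw [hp_sum]
    refine J.sum_mem fun n hn => ?_
    rcases Nat.eq_zero_or_pos n with rfl | hn0
    · exact absurd hp (mem_support_iff.mp hn)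
    · exact hB n hn0 _ _
  · rw [Ideal.span_le]
    rintro x (rfl | ⟨n, hn, rfl⟩)
    · rw [SetLike.mem_coe, mem_Rplus_iff]
      show (X : K[X]).coeff 0 = 0
      exact coeff_X_zero
    · rw [SetLike.mem_coe, mem_Rplus_iff]
      show (monomial n (F n)).coeff 0 = 0
      rw [coeff_monomial, if_neg]
      exact ((mem_minGens_iff hK hP n).mp hn).2.1

include hK hP hπ in
theorem spanFinrank_le :
    (Rplus P).spanFinrank ≤ (minGens (poleOrders P)).ncard + 1 ∧ (Rplus P).FG := by
  obtain ⟨F, hFL, hF1⟩ := exists_F hK hP hπ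
  have hfin := finite_minGens hK hP
  have hfin' : (insert (Tx P) ((fun n => mono (hFL n)) '' minGens (poleOrders P))).Finite :=
    (hfin.image _).insert _
  rw [Rplus_eq_span hK hP hπ F hFL hF1]
  constructor
  · calc (Ideal.span (insert (Tx P)
          ((fun n => mono (hFL n)) '' minGens (poleOrders P)))).spanFinrank
        ≤ (insert (Tx P) ((fun n => mono (hFL n)) '' minGens (poleOrders P))).ncard :=
          Submodule.spanFinrank_span_le_ncard_of_finite hfin'
      _ ≤ ((fun n => mono (hFL n)) '' minGens (poleOrders P)).ncard + 1 :=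
          Set.ncard_insert_le _ _
      _ ≤ (minGens (poleOrders P)).ncard + 1 :=
          Nat.add_le_add_right (Set.ncard_image_le hfin) 1
  · exact Submodule.fg_span hfin'

theorem val_coeff_zero_le (r : sectRing (Finsupp.single P 1 : Divisor k K)) :
    P.1 (r.1.coeff 0) ≤ 1 := by
  have := val_coeff_le r 0
  rwa [Nat.cast_zero, exp_zero] at this

include hK hP in
theorem val_coeff_one_le (hg : 1 ≤ genus k K) (p : sectRing (Finsupp.single P 1 : Divisor k K)) :
    P.1 (p.1.coeff 1) ≤ 1 := by
  have h1 := mem_sectRing_iff.mp p.2 1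
  rw [L_single_one_eq hK hg hP] at h1
  obtain ⟨c, hc⟩ := exists_eq_algebraMap_of_mem_L_zero hK h1
  rw [hc]
  exact val_algebraMap_le P c

include hK hP in
theorem cst_coeff_one_mul (hg : 1 ≤ genus k K) (r p : sectRing (Finsupp.single P 1 : Divisor k K))
    (hp : p ∈ Rplus P) :
    cst hK hP ((r * p).1.coeff 1) = cst hK hP (r.1.coeff 0) * cst hK hP (p.1.coeff 1) := by
  rw [mem_Rplus_iff] at hp
  rw [MulMemClass.coe_mul, mul_coeff_one, hp, mul_zero, add_zero,
    cst_mul hK hP (val_coeff_zero_le r) (val_coeff_one_le hK hP hg p)]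

include hK hP hπ in
theorem coeff_psi_mul_of_minGen (r p : sectRing (Finsupp.single P 1 : Divisor k K))
    (hp : p ∈ Rplus P) {n : ℕ} (hn : n ∈ minGens (poleOrders P)) :
    (psi hK hP hπ (r * p)).coeff n = cst hK hP (r.1.coeff 0) * (psi hK hP hπ p).coeff n := by
  rw [mem_Rplus_iff] at hp
  rw [mem_minGens_iff hK hP] at hn
  rw [map_mul, coeff_mul, Finset.sum_eq_single (0, n)]
  · show (psi hK hP hπ r).coeff 0 * _ = _
    rw [coeff_psi, lead, pow_zero, one_mul]
  · intro b hb hne
    by_contra hprod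
    have h1 : (psi hK hP hπ r).coeff b.1 ≠ 0 := left_ne_zero_of_mul hprod
    have h2 : (psi hK hP hπ p).coeff b.2 ≠ 0 := right_ne_zero_of_mul hprod
    rw [coeff_psi] at h1 h2
    have hb2 : b.2 ≠ 0 := by
      intro h0
      rw [h0, hp, lead_zero_right] at h2
      exact h2 rfl
    have hsum := Finset.mem_antidiagonal.mp hb
    have hb1 : b.1 ≠ 0 := by
      intro h0
      apply hne
      ext
      · exact h0
      · show b.2 = n
        omega
    exact hn.2.2 b.1 b.2
      (not_isGap_of_lead_ne_zero hK hP hπ (mem_sectRing_iff.mp r.2 b.1) h1)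
      (not_isGap_of_lead_ne_zero hK hP hπ (mem_sectRing_iff.mp p.2 b.2) h2) hb1 hb2 hsum
  · intro h
    exact absurd (Finset.mem_antidiagonal.mpr (zero_add n)) h

end Groth.Agent.Lib.Helper24.Sect
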