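import Groth.Agent.Lib.Helper18.FF.RatPlaces2

/-! # The constant term of an integral element at a rational place (helper24) -/

set_option autoImplicit false

namespace Groth.Agent.Lib.Helper24.Sect

open FunFld WithZero Groth.Agent.Lib.Helper18.FF

universe u v

variable {k : Type u} {K : Type v} [Field k] [Field K] [Algebra k K]

open Classical in
/-- The constant congruent to `z` modulo the maximal ideal of the rational place `P`
(`0` if `z` is not integral at `P`). -/
noncomputable def cst (hK : IsFunctionField k K) {P : Place k K} (hP : P.deg = 1) (z : K) : k :=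
  if h : P.1 z ≤ 1 then Classical.choose (exists_const_sub_lt_one hK hP h) else 0

variable (hK : IsFunctionField k K) {P : Place k K} (hP : P.deg = 1)

theorem cst_spec {z : K} (h : P.1 z ≤ 1) : P.1 (z - algebraMap k K (cst hK hP z)) < 1 := by
  rw [cst, dif_pos h]
  exact Classical.choose_spec (exists_const_sub_lt_one hK hP h)

theorem val_le_one_of_sub_lt {z : K} {a : k} (h : P.1 (z - algebraMap k K a) < 1) : P.1 z ≤ 1 := by
  have : z = (z - algebraMap k K a) + algebraMap k K a := by ring
  rw [this]
  exact (P.1.map_add _ _).trans (max_le h.le (val_algebraMap_le P a))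

theorem cst_unique {z : K} {a : k} (h : P.1 (z - algebraMap k K a) < 1) : cst hK hP z = a := by
  have hz := val_le_one_of_sub_lt h
  have h1 := cst_spec hK hP hz
  by_contra hne
  have hne' : a - cst hK hP z ≠ 0 := sub_ne_zero.mpr (Ne.symm hne)
  have h2 : P.1 (algebraMap k K (a - cst hK hP z)) = 1 := val_algebraMap P hne'
  have h3 : algebraMap k K (a - cst hK hP z) =
      (z - algebraMap k K (cst hK hP z)) - (z - algebraMap k K a) := by
    rw [map_sub]; ring
  rw [h3] at h2
  have h4 := P.1.map_sub (z - algebraMap k K (cst hK hP z)) (z - algebraMap k K a)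
  rw [h2] at h4
  exact absurd h4 (not_le.mpr (max_lt h1 h))

theorem cst_algebraMap (c : k) : cst hK hP (algebraMap k K c) = c :=
  cst_unique hK hP (by rw [sub_self, map_zero]; exact zero_lt_one)

theorem cst_zero : cst hK hP (0 : K) = 0 := by
  have := cst_algebraMap hK hP (0 : k)
  rwa [map_zero] at this

theorem cst_one : cst hK hP (1 : K) = 1 := by
  have := cst_algebraMap hK hP (1 : k)
  rwa [map_one] at this

theorem cst_add {x y : K} (hx : P.1 x ≤ 1) (hy : P.1 y ≤ 1) :
    cst hK hP (x + y) = cst hK hP x + cst hK hP y := by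
  apply cst_unique
  have : x + y - algebraMap k K (cst hK hP x + cst hK hP y) =
      (x - algebraMap k K (cst hK hP x)) + (y - algebraMap k K (cst hK hP y)) := by
    rw [map_add]; ring
  rw [this]
  exact (P.1.map_add _ _).trans_lt (max_lt (cst_spec hK hP hx) (cst_spec hK hP hy))

theorem cst_mul {x y : K} (hx : P.1 x ≤ 1) (hy : P.1 y ≤ 1) :
    cst hK hP (x * y) = cst hK hP x * cst hK hP y := by
  apply cst_unique
  have : x * y - algebraMap k K (cst hK hP x * cst hK hP y) =
      (x - algebraMap k K (cst hK hP x)) * y +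
        algebraMap k K (cst hK hP x) * (y - algebraMap k K (cst hK hP y)) := by
    rw [map_mul]; ring
  rw [this]
  refine (P.1.map_add _ _).trans_lt (max_lt ?_ ?_)
  · rw [map_mul]
    calc P.1 (x - algebraMap k K (cst hK hP x)) * P.1 y
        ≤ P.1 (x - algebraMap k K (cst hK hP x)) * 1 := mul_le_mul_right hy _
      _ < 1 := by rw [mul_one]; exact cst_spec hK hP hx
  · rw [map_mul]
    calc P.1 (algebraMap k K (cst hK hP x)) * P.1 (y - algebraMap k K (cst hK hP y))
        ≤ 1 * P.1 (y - algebraMap k K (cst hK hP y)) :=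
          mul_le_mul_left (val_algebraMap_le P _) _
      _ < 1 := by rw [one_mul]; exact cst_spec hK hP hy

theorem cst_smul (c : k) {x : K} (hx : P.1 x ≤ 1) : cst hK hP (c • x) = c * cst hK hP x := by
  rw [Algebra.smul_def, cst_mul hK hP (val_algebraMap_le P c) hx, cst_algebraMap]

theorem cst_eq_zero_iff {x : K} (hx : P.1 x ≤ 1) : cst hK hP x = 0 ↔ P.1 x < 1 := by
  constructor
  · intro h
    have := cst_spec hK hP hx
    rwa [h, map_zero, sub_zero] at this
  · intro h
    exact cst_unique hK hP (by rwa [map_zero, sub_zero])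

theorem cst_sum {ι : Type*} (s : Finset ι) (f : ι → K) (h : ∀ i ∈ s, P.1 (f i) ≤ 1) :
    cst hK hP (∑ i ∈ s, f i) = ∑ i ∈ s, cst hK hP (f i) := by
  classical
  induction s using Finset.induction_on with
  | empty => simp [cst_zero]
  | insert a s ha ih =>
    rw [Finset.sum_insert ha, Finset.sum_insert ha,
      cst_add hK hP (h a (Finset.mem_insert_self a s))
        (P.1.map_sum_le fun i hi => h i (Finset.mem_insert_of_mem hi)),
      ih fun i hi => h i (Finset.mem_insert_of_mem hi)]

end Groth.Agent.Lib.Helper24.Sect
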