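import Groth.Agent.Lib.Helper24.Sect.Range
import Mathlib.Algebra.Module.SpanRank
import Mathlib.LinearAlgebra.StdBasis
import Mathlib.LinearAlgebra.Dimension.Constructions

/-! # The embedding dimension of the section ring of a point (helper24) -/

set_option autoImplicit false

namespace Groth.Agent.Lib.Helper24.Sect

open FunFld WithZero Polynomial Groth.Agent.Lib.Helper18.FF W4c6gradedringsgw

universe u v

variable {k : Type u} {K : Type v} [Field k] [Field K] [Algebra k K]

section Semigroup

variable (hK : IsFunctionField k K) {P : Place k K} (hP : P.deg = 1)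

include hK hP in
theorem mem_minGens_iff (n : ℕ) : n ∈ minGens (poleOrders P) ↔
    ¬ IsGap P n ∧ n ≠ 0 ∧
      ∀ a b : ℕ, ¬ IsGap P a → ¬ IsGap P b → a ≠ 0 → b ≠ 0 → a + b ≠ n := by
  unfold minGens
  simp only [Set.mem_setOf_eq, mem_poleOrders_iff hK hP]
  constructor
  · rintro ⟨h1, h2, h3⟩; exact ⟨h1, h2, fun a b ha hb => h3 a ha b hb⟩
  · rintro ⟨h1, h2, h3⟩; exact ⟨h1, h2, fun a ha b hb => h3 a b ha hb⟩

include hK hP in
theorem exists_pos_nonGap : ∃ m : ℕ, 0 < m ∧ ¬ IsGap P m := by
  classical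
  have h := card_gaps_eq_genus hK hP (N := 2 * genus k K + 1) (by push_cast; omega)
  by_contra hcon
  push Not at hcon
  have hfil : (Finset.Icc 1 (2 * genus k K + 1)).filter (fun m => IsGap P m) =
      Finset.Icc 1 (2 * genus k K + 1) := by
    apply Finset.filter_true_of_mem
    intro m hm
    exact hcon m (by have := Finset.mem_Icc.mp hm; omega)
  rw [hfil, Nat.card_Icc] at h
  omega

include hK hP in
theorem finite_minGens : (minGens (poleOrders P)).Finite := by
  obtain ⟨m, hm0, hm⟩ := exists_pos_nonGap hK hP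
  have key : ∀ a b : ℕ, a ∈ minGens (poleOrders P) → b ∈ minGens (poleOrders P) →
      a % m = b % m → a < b → False := by
    intro a b ha hb hab hlt
    rw [mem_minGens_iff hK hP] at ha hb
    have hdvd : m ∣ b - a := (Nat.modEq_iff_dvd' hlt.le).mp hab
    obtain ⟨j, hj⟩ := hdvd
    have hj0 : j ≠ 0 := by rintro rfl; omega
    have hmj : ¬ IsGap P (j * m) := by
      have := (nonGap hK P).nsmul_mem (x := m) hm j
      rwa [smul_eq_mul] at this
    refine hb.2.2 a (j * m) ha.1 hmj ha.2.1 (Nat.mul_ne_zero hj0 hm0.ne') ?_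
    rw [mul_comm j m, ← hj]; omega
  refine Set.Finite.of_injOn (f := fun n => n % m) (t := Set.Iio m)
    (fun n _ => Nat.mod_lt n hm0) ?_ (Set.finite_Iio m)
  intro a ha b hb hab
  by_contra hne
  rcases Nat.lt_or_gt_of_ne hne with h | h
  · exact key a b ha hb hab h
  · exact key b a hb ha hab.symm h

end Semigroup

section Gens

variable (hK : IsFunctionField k K) {P : Place k K} (hP : P.deg = 1) {π : K}
  (hπ : P.1 π = exp (-1 : ℤ))

/-- The irrelevant ideal of the section ring. -/
noncomputable abbrev Rplus (P : Place k K) : Ideal (sectRing (Finsupp.single P 1 : Divisor k K)) :=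
  RingHom.ker (Polynomial.constantCoeff.comp
    (sectRing (Finsupp.single P 1 : Divisor k K)).val.toRingHom)

theorem mem_Rplus_iff (p : sectRing (Finsupp.single P 1 : Divisor k K)) :
    p ∈ Rplus P ↔ p.1.coeff 0 = 0 := by
  rw [Rplus, RingHom.mem_ker]
  rfl

theorem X_mem_sectRing : (X : K[X]) ∈ sectRing (Finsupp.single P 1 : Divisor k K) := by
  rw [mem_sectRing_iff]
  intro n
  rw [coeff_X]
  split_ifs
  · rw [mem_L_single]
    refine ⟨?_, fun Q _ => by rw [map_one]⟩
    rw [map_one, ← exp_zero, exp_le_exp]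
    exact Int.natCast_nonneg n
  · exact Submodule.zero_mem _

/-- The element `T` of the section ring. -/
noncomputable def Tx (P : Place k K) : sectRing (Finsupp.single P 1 : Divisor k K) :=
  ⟨X, X_mem_sectRing⟩

/-- The element `f Tⁿ` of the section ring. -/
noncomputable def mono {n : ℕ} {f : K} (hf : f ∈ L (Finsupp.single P (n : ℤ) : Divisor k K)) :
    sectRing (Finsupp.single P 1 : Divisor k K) :=
  ⟨monomial n f, monomial_mem_sectRing hf⟩

theorem mem_L_single_of_lt {m : ℕ} {f : K}
    (hf : f ∈ L (Finsupp.single P ((m + 1 : ℕ) : ℤ) : Divisor k K))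
    (hlt : P.1 f < exp ((m + 1 : ℕ) : ℤ)) :
    f ∈ L (Finsupp.single P (m : ℤ) : Divisor k K) := by
  rw [mem_L_single] at hf ⊢
  refine ⟨?_, hf.2⟩
  apply (zm0_lt_exp_succ_iff _ _).mp
  have e : ((m + 1 : ℕ) : ℤ) = (m : ℤ) + 1 := by push_cast; rfl
  rwa [e] at hlt

theorem mono_succ_eq {m : ℕ} {f : K}
    (hf : f ∈ L (Finsupp.single P ((m + 1 : ℕ) : ℤ) : Divisor k K))
    (hf' : f ∈ L (Finsupp.single P (m : ℤ) : Divisor k K)) :
    mono hf = mono hf' * Tx P :=
  Subtype.ext (by
    rw [MulMemClass.coe_mul]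
    exact (monomial_mul_X m f).symm)

include hK hP hπ in
theorem mono_mem_of_gens (J : Ideal (sectRing (Finsupp.single P 1 : Divisor k K)))
    (hT : Tx P ∈ J) (F : ℕ → K)
    (hFL : ∀ n : ℕ, F n ∈ L (Finsupp.single P (n : ℤ) : Divisor k K))
    (hF1 : ∀ n : ℕ, ¬ IsGap P n → lead hK hP π n (F n) = 1)
    (hG : ∀ n ∈ minGens (poleOrders P), mono (hFL n) ∈ J) :
    ∀ n : ℕ, 1 ≤ n → ∀ (f : K) (hf : f ∈ L (Finsupp.single P (n : ℤ) : Divisor k K)),
      mono hf ∈ J := by
  intro n
  induction n using Nat.strong_induction_on with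
  | _ n ih =>
    intro hn f hf
    obtain ⟨m, rfl⟩ : ∃ m, n = m + 1 := ⟨n - 1, by omega⟩
    have hlow : ∀ (f' : K) (hf' : f' ∈ L (Finsupp.single P ((m + 1 : ℕ) : ℤ) : Divisor k K)),
        P.1 f' < exp ((m + 1 : ℕ) : ℤ) → mono hf' ∈ J := by
      intro f' hf' hlt
      rw [mono_succ_eq hf' (mem_L_single_of_lt hf' hlt)]
      exact J.mul_mem_left _ hT
    by_cases hgap : IsGap P (m + 1)
    · apply hlow f hf
      have hf2 := hf
      rw [IsGap] at hgap
      rw [hgap] at hf2
      exact lt_of_le_of_lt (mem_L_single.mp hf2).1 (exp_lt_exp.mpr (by omega))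
    · have hex : ∃ (f₀ : K) (h₀ : f₀ ∈ L (Finsupp.single P ((m + 1 : ℕ) : ℤ) : Divisor k K)),
          lead hK hP π (m + 1) f₀ = 1 ∧ mono h₀ ∈ J := by
        by_cases hmin : (m + 1) ∈ minGens (poleOrders P)
        · exact ⟨F (m + 1), hFL (m + 1), hF1 _ hgap, hG _ hmin⟩
        · rw [mem_minGens_iff hK hP] at hmin
          push Not at hmin
          obtain ⟨a, b, ha, hb, ha0, hb0, hab⟩ := hmin hgap (Nat.succ_ne_zero m)
          have hFab : F a * F b ∈ L (Finsupp.single P ((m + 1 : ℕ) : ℤ) : Divisor k K) := by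
            have := mul_mem_L (hFL a) (hFL b)
            rwa [← Finsupp.single_add, ← Nat.cast_add, hab] at this
          refine ⟨F a * F b, hFab, ?_, ?_⟩
          · rw [← hab, lead_mul hK hP hπ (mem_L_single.mp (hFL a)).1 (mem_L_single.mp (hFL b)).1,
              hF1 a ha, hF1 b hb, mul_one]
          · have e : mono hFab = mono (hFL a) * mono (hFL b) :=
              Subtype.ext (by
                rw [MulMemClass.coe_mul]
                show monomial (m + 1) (F a * F b) = monomial a (F a) * monomial b (F b)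
                rw [monomial_mul_monomial, hab])
            rw [e]
            exact J.mul_mem_right _ (ih a (by omega) (by omega) (F a) (hFL a))
      obtain ⟨f₀, h₀, hl₀, hJ₀⟩ := hex
      set c := lead hK hP π (m + 1) f with hc
      have hcf₀ : c • f₀ ∈ L (Finsupp.single P ((m + 1 : ℕ) : ℤ) : Divisor k K) :=
        Submodule.smul_mem _ c h₀
      have hf' : f - c • f₀ ∈ L (Finsupp.single P ((m + 1 : ℕ) : ℤ) : Divisor k K) :=
        Submodule.sub_mem _ hf hcf₀
      have hlt : P.1 (f - c • f₀) < exp ((m + 1 : ℕ) : ℤ) := by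
        rw [← lead_eq_zero_iff hK hP hπ (mem_L_single.mp hf').1, sub_eq_add_neg, ← neg_smul,
          lead_add hK hP hπ (mem_L_single.mp hf).1
            (mem_L_single.mp (Submodule.smul_mem _ (-c) h₀)).1,
          lead_smul hK hP hπ _ (mem_L_single.mp h₀).1, hl₀, ← hc]
        ring
      have e : mono hf = mono hf' + algebraMap k _ c * mono h₀ :=
        Subtype.ext (by
          rw [AddMemClass.coe_add, MulMemClass.coe_mul, Subalgebra.coe_algebraMap,
            Polynomial.algebraMap_apply]
          show monomial (m + 1) f = monomial (m + 1) (f - c • f₀) +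
            C (algebraMap k K c) * monomial (m + 1) f₀
          rw [C_mul_monomial, ← Algebra.smul_def, ← map_add, sub_add_cancel])
      rw [e]
      exact J.add_mem (hlow _ hf' hlt) (J.mul_mem_left _ hJ₀)

end Gens

end Groth.Agent.Lib.Helper24.Sect
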