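import Groth.Agent.Lib.Helper24.Sect.Emb2

/-! # The embedding dimension of the section ring of a point, III (helper24) -/

set_option autoImplicit false

namespace Groth.Agent.Lib.Helper24.Sect

open FunFld WithZero Polynomial Groth.Agent.Lib.Helper18.FF W4c6gradedringsgw

universe u v

variable {k : Type u} {K : Type v} [Field k] [Field K] [Algebra k K]

variable (hK : IsFunctionField k K) {P : Place k K} (hP : P.deg = 1) {π : K}
  (hπ : P.1 π = exp (-1 : ℤ))

include hK hP hπ in
theorem le_spanFinrank (hg : 1 ≤ genus k K) :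
    (minGens (poleOrders P)).ncard + 1 ≤ (Rplus P).spanFinrank := by
  classical
  obtain ⟨F, hFL, hF1⟩ := exists_F hK hP hπ
  have hfin := finite_minGens hK hP
  have hFG : (Rplus P).FG := (spanFinrank_le hK hP hπ).2
  obtain ⟨S, hScard, hSspan⟩ := Submodule.FG.exists_span_finset_card_eq_spanFinrank hFG
  set Nf := hfin.toFinset with hNf
  have hmemNf : ∀ n, n ∈ Nf ↔ n ∈ minGens (poleOrders P) := fun n => hfin.mem_toFinset
  have h1N : 1 ∉ Nf := by
    rw [hmemNf, mem_minGens_iff hK hP]
    intro h
    exact h.1 (isGap_one hK hg hP)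
  set N' : Finset ℕ := insert 1 Nf with hN'
  have hmemN' : ∀ n : N', (n : ℕ) ≠ 1 → (n : ℕ) ∈ minGens (poleOrders P) := by
    intro n h
    have : (n : ℕ) ∈ insert 1 Nf := n.2
    rw [Finset.mem_insert] at this
    rcases this with h' | h'
    · exact absurd h' h
    · exact (hmemNf _).mp h'
  let Φ : sectRing (Finsupp.single P 1 : Divisor k K) → (N' → k) := fun p n =>
    if (n : ℕ) = 1 then cst hK hP (p.1.coeff 1) else (psi hK hP hπ p).coeff n
  have hΦadd : ∀ p q, Φ (p + q) = Φ p + Φ q := by
    intro p q
    funext n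
    simp only [Φ, Pi.add_apply]
    split_ifs with h
    · rw [AddMemClass.coe_add, coeff_add,
        cst_add hK hP (val_coeff_one_le hK hP hg p) (val_coeff_one_le hK hP hg q)]
    · rw [map_add, coeff_add]
  have hΦzero : Φ 0 = 0 := by
    funext n
    simp only [Φ, Pi.zero_apply]
    split_ifs
    · rw [ZeroMemClass.coe_zero, coeff_zero, cst_zero]
    · rw [map_zero, coeff_zero]
  have hΦmul : ∀ r p, p ∈ Rplus P → Φ (r * p) = cst hK hP (r.1.coeff 0) • Φ p := by
    intro r p hp
    funext n
    simp only [Φ, Pi.smul_apply, smul_eq_mul]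
    split_ifs with h
    · exact cst_coeff_one_mul hK hP hg r p hp
    · exact coeff_psi_mul_of_minGen hK hP hπ r p hp (hmemN' n h)
  set W : Submodule k (N' → k) := Submodule.span k (S.image Φ : Set (N' → k)) with hW
  have hmemW : ∀ p ∈ Rplus P, Φ p ∈ W := by
    intro p hp
    rw [← hSspan] at hp
    induction hp using Submodule.span_induction with
    | mem x hx =>
      exact Submodule.subset_span (Finset.mem_coe.mpr (Finset.mem_image_of_mem Φ hx))
    | zero => rw [hΦzero]; exact W.zero_mem
    | add x y hx hy ihx ihy => rw [hΦadd]; exact W.add_mem ihx ihy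
    | smul a x hx ih =>
      rw [smul_eq_mul, hΦmul a x (by rw [← hSspan]; exact hx)]
      exact W.smul_mem _ ih
  have hTmem : Tx P ∈ Rplus P := by
    rw [mem_Rplus_iff]
    show (X : K[X]).coeff 0 = 0
    exact coeff_X_zero
  have hGmem : ∀ n ∈ minGens (poleOrders P), mono (hFL n) ∈ Rplus P := by
    intro n hn
    rw [mem_Rplus_iff]
    show (monomial n (F n)).coeff 0 = 0
    rw [coeff_monomial, if_neg]
    exact ((mem_minGens_iff hK hP n).mp hn).2.1
  have hWtop : W = ⊤ := by
    rw [eq_top_iff, ← (Pi.basisFun k N').span_eq, Submodule.span_le]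
    rintro _ ⟨n, rfl⟩
    rw [Pi.basisFun_apply]
    by_cases hn1 : (n : ℕ) = 1
    · have hΦT : Φ (Tx P) = Pi.single n 1 := by
        funext m
        simp only [Φ, Pi.single_apply]
        by_cases hm : (m : ℕ) = 1
        · rw [if_pos hm, if_pos (Subtype.ext (hm.trans hn1.symm))]
          show cst hK hP ((X : K[X]).coeff 1) = 1
          rw [coeff_X_one, cst_one]
        · rw [if_neg hm, if_neg (fun h => hm (by rw [h]; exact hn1))]
          rw [coeff_psi]
          show lead hK hP π m ((X : K[X]).coeff m) = 0
          rw [coeff_X, if_neg (fun h => hm h.symm), lead_zero_right]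
      rw [← hΦT]
      exact hmemW _ hTmem
    · have hn := hmemN' n hn1
      have hng : ¬ IsGap P n := ((mem_minGens_iff hK hP n).mp hn).1
      have hΦG : Φ (mono (hFL n)) = Pi.single n 1 := by
        funext m
        simp only [Φ, Pi.single_apply]
        by_cases hm : (m : ℕ) = 1
        · rw [if_pos hm, if_neg (fun h => hn1 (by rw [← h]; exact hm))]
          show cst hK hP ((monomial (n : ℕ) (F n)).coeff 1) = 0
          rw [coeff_monomial, if_neg hn1, cst_zero]
        · rw [if_neg hm]
          show (psi hK hP hπ ⟨monomial (n : ℕ) (F n), _⟩).coeff m = _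
          rw [psi_monomial hK hP hπ (hFL n), coeff_monomial, hF1 n hng]
          by_cases hmn : m = n
          · rw [if_pos hmn, if_pos (by rw [hmn])]
          · rw [if_neg hmn, if_neg (fun h => hmn (Subtype.ext h.symm))]
      rw [← hΦG]
      exact hmemW _ (hGmem _ hn)
  have hdim : Module.finrank k W = N'.card := by
    rw [hWtop, finrank_top, Module.finrank_fintype_fun_eq_card, Fintype.card_coe]
  have hle : Module.finrank k W ≤ S.card :=
    (finrank_span_finset_le_card (S.image Φ)).trans Finset.card_image_le
  have hcard : N'.card = Nf.card + 1 := Finset.card_insert_of_notMem h1N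
  rw [← hScard, Set.ncard_eq_toFinset_card _ hfin]
  change Nf.card + 1 ≤ S.card
  omega

include hK hP in
/-- **S18670, for a rational place.** -/
theorem spanFinrank_Rplus (hg : 1 ≤ genus k K) :
    (Rplus P).spanFinrank = (minGens (poleOrders P)).ncard + 1 := by
  obtain ⟨π, hπ⟩ := exists_uniformizer P
  exact le_antisymm (spanFinrank_le hK hP hπ).1 (le_spanFinrank hK hP hπ hg)

end Groth.Agent.Lib.Helper24.Sect
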