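import Groth.Agent.Lib.Helper24.Sect.Cst
import Groth.Prelude.Def_W4c6gradedringsgwSect
import Groth.Agent.Lib.Helper18.FF.Gaps2
import Groth.Agent.Lib.Helper18.FF.Rational

/-! # The leading-coefficient homomorphism on the section ring of a point (helper24) -/

set_option autoImplicit false

namespace Groth.Agent.Lib.Helper24.Sect

open FunFld WithZero Polynomial Groth.Agent.Lib.Helper18.FF W4c6gradedringsgw

universe u v

variable {k : Type u} {K : Type v} [Field k] [Field K] [Algebra k K]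

theorem zm0_lt_exp_succ_iff (γ : ℤᵐ⁰) (n : ℤ) : γ < exp (n + 1) ↔ γ ≤ exp n := by
  rcases eq_or_ne γ 0 with rfl | h
  · simp
  · obtain ⟨m, rfl⟩ : ∃ m, γ = exp m := ⟨log γ, (exp_log h).symm⟩
    rw [exp_lt_exp, exp_le_exp]; omega

theorem smul_single_one (P : Place k K) (n : ℤ) :
    n • (Finsupp.single P 1 : Divisor k K) = Finsupp.single P n := by
  rw [Finsupp.smul_single, smul_eq_mul, mul_one]

theorem mem_L_single {P : Place k K} {n : ℤ} {z : K} :
    z ∈ L (Finsupp.single P n : Divisor k K) ↔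
      P.1 z ≤ exp n ∧ ∀ Q : Place k K, Q ≠ P → Q.1 z ≤ 1 := by
  constructor
  · intro h
    refine ⟨by simpa using h P, fun Q hQ => ?_⟩
    have := h Q
    rwa [Finsupp.single_eq_of_ne hQ, exp_zero] at this
  · rintro ⟨h1, h2⟩ Q
    by_cases hQ : Q = P
    · subst hQ; simpa using h1
    · rw [Finsupp.single_eq_of_ne hQ, exp_zero]; exact h2 Q hQ

theorem mem_sectRing_iff {P : Place k K} {p : K[X]} :
    p ∈ sectRing (Finsupp.single P 1 : Divisor k K) ↔
      ∀ n : ℕ, p.coeff n ∈ L (Finsupp.single P (n : ℤ) : Divisor k K) := by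
  constructor
  · intro h n
    have := h n
    rwa [smul_single_one] at this
  · intro h n
    show p.coeff n ∈ L ((n : ℤ) • (Finsupp.single P 1 : Divisor k K))
    rw [smul_single_one]
    exact h n

theorem val_coeff_le {P : Place k K} (p : sectRing (Finsupp.single P 1 : Divisor k K)) (n : ℕ) :
    P.1 (p.1.coeff n) ≤ exp (n : ℤ) :=
  (mem_L_single.mp (mem_sectRing_iff.mp p.2 n)).1

section Lead

variable (hK : IsFunctionField k K) {P : Place k K} (hP : P.deg = 1) {π : K}
  (hπ : P.1 π = exp (-1 : ℤ))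

include hπ in
theorem val_pow_mul (n : ℕ) (x : K) : P.1 (π ^ n * x) = exp (-(n : ℤ)) * P.1 x := by
  rw [map_mul, map_pow, hπ, ← exp_nsmul]
  congr 2
  simp

include hπ in
theorem val_pow_mul_le_one {n : ℕ} {x : K} (hx : P.1 x ≤ exp (n : ℤ)) : P.1 (π ^ n * x) ≤ 1 := by
  rw [val_pow_mul hπ]
  calc exp (-(n : ℤ)) * P.1 x ≤ exp (-(n : ℤ)) * exp (n : ℤ) := mul_le_mul_right hx _
    _ = 1 := by rw [← exp_add, ← exp_zero]; congr 1; simp

include hπ in
theorem val_pow_mul_lt_one_iff {n : ℕ} {x : K} : P.1 (π ^ n * x) < 1 ↔ P.1 x < exp (n : ℤ) := by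
  rw [val_pow_mul hπ, exp_neg, inv_mul_lt_iff₀ (exp_pos), mul_one]

/-- The coefficient of `π^{-n}` in the expansion of `x` at `P`. -/
noncomputable def lead (π : K) (n : ℕ) (x : K) : k := cst hK hP (π ^ n * x)

theorem lead_zero_right (n : ℕ) : lead hK hP π n 0 = 0 := by
  rw [lead, mul_zero, cst_zero]

include hπ in
theorem lead_add {n : ℕ} {x y : K} (hx : P.1 x ≤ exp (n : ℤ)) (hy : P.1 y ≤ exp (n : ℤ)) :
    lead hK hP π n (x + y) = lead hK hP π n x + lead hK hP π n y := by
  rw [lead, mul_add, cst_add hK hP (val_pow_mul_le_one hπ hx) (val_pow_mul_le_one hπ hy)]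
  rfl

include hπ in
theorem lead_smul {n : ℕ} (c : k) {x : K} (hx : P.1 x ≤ exp (n : ℤ)) :
    lead hK hP π n (c • x) = c * lead hK hP π n x := by
  rw [lead, mul_smul_comm, cst_smul hK hP c (val_pow_mul_le_one hπ hx)]
  rfl

include hπ in
theorem lead_mul {i j : ℕ} {x y : K} (hx : P.1 x ≤ exp (i : ℤ)) (hy : P.1 y ≤ exp (j : ℤ)) :
    lead hK hP π (i + j) (x * y) = lead hK hP π i x * lead hK hP π j y := by
  have e : π ^ (i + j) * (x * y) = (π ^ i * x) * (π ^ j * y) := by rw [pow_add]; ring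
  rw [lead, e, cst_mul hK hP (val_pow_mul_le_one hπ hx) (val_pow_mul_le_one hπ hy)]
  rfl

include hπ in
theorem lead_eq_zero_iff {n : ℕ} {x : K} (hx : P.1 x ≤ exp (n : ℤ)) :
    lead hK hP π n x = 0 ↔ P.1 x < exp (n : ℤ) := by
  rw [lead, cst_eq_zero_iff hK hP (val_pow_mul_le_one hπ hx), val_pow_mul_lt_one_iff hπ]

include hπ in
theorem lead_sum {ι : Type*} {n : ℕ} (s : Finset ι) (f : ι → K)
    (h : ∀ i ∈ s, P.1 (f i) ≤ exp (n : ℤ)) :
    lead hK hP π n (∑ i ∈ s, f i) = ∑ i ∈ s, lead hK hP π n (f i) := by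
  rw [lead, Finset.mul_sum, cst_sum hK hP s _ fun i hi => val_pow_mul_le_one hπ (h i hi)]
  rfl

theorem lead_zero_algebraMap (c : k) : lead hK hP π 0 (algebraMap k K c) = c := by
  rw [lead, pow_zero, one_mul, cst_algebraMap]

/-- The underlying function of `psi`. -/
noncomputable def psiFun (π : K) (p : K[X]) : k[X] :=
  ∑ n ∈ p.support, monomial n (lead hK hP π n (p.coeff n))

theorem coeff_psiFun (p : K[X]) (m : ℕ) :
    (psiFun hK hP π p).coeff m = lead hK hP π m (p.coeff m) := by
  classical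
  rw [psiFun, finset_sum_coeff]
  simp only [coeff_monomial]
  rw [Finset.sum_ite_eq' p.support m]
  split_ifs with h
  · rfl
  · rw [notMem_support_iff.mp h, lead_zero_right]

/-- **The leading-coefficient homomorphism** `R_P → k[X]`, `∑ fₙ Tⁿ ↦ ∑ lcₙ(fₙ) Xⁿ`. -/
noncomputable def psi : sectRing (Finsupp.single P 1 : Divisor k K) →ₐ[k] k[X] where
  toFun p := psiFun hK hP π p.1
  map_one' := by
    ext m
    rw [coeff_psiFun, OneMemClass.coe_one, coeff_one, coeff_one]
    split_ifs with h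
    · subst h
      have := lead_zero_algebraMap hK hP (π := π) (1 : k)
      rwa [map_one] at this
    · exact lead_zero_right hK hP m
  map_mul' p q := by
    ext n
    rw [coeff_psiFun, MulMemClass.coe_mul, coeff_mul, coeff_mul,
      lead_sum hK hP hπ _ _ (fun x hx => by
        have h1 := val_coeff_le p x.1
        have h2 := val_coeff_le q x.2
        rw [map_mul]
        calc P.1 (p.1.coeff x.1) * P.1 (q.1.coeff x.2)
            ≤ exp (x.1 : ℤ) * exp (x.2 : ℤ) := mul_le_mul' h1 h2
          _ = exp (n : ℤ) := by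
            rw [← exp_add, ← Finset.mem_antidiagonal.mp hx]; push_cast; rfl)]
    refine Finset.sum_congr rfl fun x hx => ?_
    rw [coeff_psiFun, coeff_psiFun, ← lead_mul hK hP hπ (val_coeff_le p x.1) (val_coeff_le q x.2),
      Finset.mem_antidiagonal.mp hx]
  map_zero' := by
    ext m
    rw [coeff_psiFun, ZeroMemClass.coe_zero, coeff_zero, coeff_zero, lead_zero_right]
  map_add' p q := by
    ext m
    rw [coeff_psiFun, AddMemClass.coe_add, coeff_add, coeff_add, coeff_psiFun, coeff_psiFun,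
      lead_add hK hP hπ (val_coeff_le p m) (val_coeff_le q m)]
  commutes' c := by
    ext m
    rw [coeff_psiFun, Subalgebra.coe_algebraMap, Polynomial.algebraMap_apply,
      Polynomial.algebraMap_apply, coeff_C, coeff_C]
    split_ifs with h
    · subst h
      rw [Algebra.algebraMap_self, RingHom.id_apply]
      exact lead_zero_algebraMap hK hP c
    · exact lead_zero_right hK hP m

theorem coeff_psi (p : sectRing (Finsupp.single P 1 : Divisor k K)) (m : ℕ) :
    (psi hK hP hπ p).coeff m = lead hK hP π m (p.1.coeff m) :=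
  coeff_psiFun hK hP p.1 m

end Lead

end Groth.Agent.Lib.Helper24.Sect
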