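import Groth.Agent.Lib.Helper24.Sect.Psi
import Mathlib.RingTheory.Ideal.Quotient.Operations
import Mathlib.Algebra.MonoidAlgebra.Basic

/-! # Kernel and range of the leading-coefficient homomorphism (helper24) -/

set_option autoImplicit false

namespace Groth.Agent.Lib.Helper24.Sect

open FunFld WithZero Polynomial Groth.Agent.Lib.Helper18.FF W4c6gradedringsgw

universe u v

variable {k : Type u} {K : Type v} [Field k] [Field K] [Algebra k K]

theorem exists_eq_algebraMap_of_mem_L_zero (hK : IsFunctionField k K) {x : K}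
    (hx : x ∈ L (0 : Divisor k K)) : ∃ c : k, x = algebraMap k K c := by
  rw [L_zero_eq_one hK, Submodule.mem_one] at hx
  obtain ⟨c, hc⟩ := hx
  exact ⟨c, hc.symm⟩

/-- In positive genus, `1` is a gap at every rational place. -/
theorem isGap_one (hK : IsFunctionField k K) (hg : 1 ≤ genus k K) {P : Place k K}
    (hP : P.deg = 1) : IsGap P 1 := by
  by_contra h
  obtain ⟨f, hf, hfP⟩ := exists_of_not_isGap h
  have hf0 : f ≠ 0 := by
    rintro rfl
    rw [map_zero] at hfP
    exact exp_ne_zero hfP.symm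
  have h1 : ∃ x : K, IntermediateField.adjoin k ({x} : Set K) = ⊤ := by
    refine (exists_simple_pole_iff hK).mp ⟨f, P, hP, ?_, fun Q hQ => ?_⟩
    · rw [ord_eq_of_val_eq_exp P hfP]; rfl
    · exact (val_le_one_iff_ord_nonneg Q hf0).mp ((mem_L_single.mp hf).2 Q hQ)
  have := ((genus_zero_and_exists_deg_one_iff hK).mpr h1).1
  omega

theorem L_single_one_eq (hK : IsFunctionField k K) (hg : 1 ≤ genus k K) {P : Place k K}
    (hP : P.deg = 1) : L (Finsupp.single P ((1 : ℕ) : ℤ) : Divisor k K) = L 0 := by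
  have h := isGap_one hK hg hP
  rw [IsGap] at h
  rw [h]
  congr 1
  simp

section Ker

variable (hK : IsFunctionField k K) {P : Place k K} (hP : P.deg = 1) {π : K}
  (hπ : P.1 π = exp (-1 : ℤ))

theorem psi_eq_zero_iff (p : sectRing (Finsupp.single P 1 : Divisor k K)) :
    psi hK hP hπ p = 0 ↔ ∀ n : ℕ, P.1 (p.1.coeff n) < exp (n : ℤ) := by
  rw [Polynomial.ext_iff]
  simp only [coeff_psi, coeff_zero]
  exact forall_congr' fun n => lead_eq_zero_iff hK hP hπ (val_coeff_le p n)

include hK in
theorem coeff_zero_eq_zero_of_lt (p : sectRing (Finsupp.single P 1 : Divisor k K))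
    (h : P.1 (p.1.coeff 0) < exp ((0 : ℕ) : ℤ)) : p.1.coeff 0 = 0 := by
  have h0 := mem_sectRing_iff.mp p.2 0
  have e : (Finsupp.single P ((0 : ℕ) : ℤ) : Divisor k K) = 0 := by simp
  rw [e] at h0
  obtain ⟨c, hc⟩ := exists_eq_algebraMap_of_mem_L_zero hK h0
  rw [hc] at h ⊢
  by_contra hne
  have hc0 : c ≠ 0 := by rintro rfl; exact hne (map_zero _)
  rw [val_algebraMap P hc0] at h
  simp at h

/-- **The kernel of `psi` is generated by any nonzero element of degree one.** -/
theorem ker_psi (hg : 1 ≤ genus k K) (t : sectRing (Finsupp.single P 1 : Divisor k K)) (a : K)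
    (ha : a ≠ 0) (ht : (t : K[X]) = C a * X) :
    RingHom.ker (psi hK hP hπ) = Ideal.span {t} := by
  have ha1 : a = t.1.coeff 1 := by rw [ht, coeff_C_mul_X, if_pos rfl]
  have haL : a ∈ L (0 : Divisor k K) := by
    rw [← L_single_one_eq hK hg hP, ha1]
    exact mem_sectRing_iff.mp t.2 1
  obtain ⟨c, hc⟩ := exists_eq_algebraMap_of_mem_L_zero hK haL
  have hc0 : c ≠ 0 := by rintro rfl; exact ha (by rw [hc, map_zero])
  apply le_antisymm
  · intro p hp
    rw [RingHom.mem_ker, psi_eq_zero_iff] at hp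
    have hp0 := coeff_zero_eq_zero_of_lt hK p (hp 0)
    have hq : C (algebraMap k K c⁻¹) * divX p.1 ∈
        sectRing (Finsupp.single P 1 : Divisor k K) := by
      rw [mem_sectRing_iff]
      intro n
      rw [coeff_C_mul, coeff_divX]
      have h1 := mem_L_single.mp (mem_sectRing_iff.mp p.2 (n + 1))
      have h2 := hp (n + 1)
      rw [mem_L_single]
      refine ⟨?_, fun Q hQ => ?_⟩
      · rw [map_mul]
        calc P.1 (algebraMap k K c⁻¹) * P.1 (p.1.coeff (n + 1))
            ≤ 1 * P.1 (p.1.coeff (n + 1)) := mul_le_mul_left (val_algebraMap_le P _) _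
          _ ≤ exp (n : ℤ) := by
            rw [one_mul]
            apply (zm0_lt_exp_succ_iff _ _).mp
            have e : ((n + 1 : ℕ) : ℤ) = (n : ℤ) + 1 := by push_cast; rfl
            rwa [e] at h2
      · rw [map_mul]
        calc Q.1 (algebraMap k K c⁻¹) * Q.1 (p.1.coeff (n + 1))
            ≤ 1 * 1 := mul_le_mul' (val_algebraMap_le Q _) (h1.2 Q hQ)
          _ = 1 := one_mul 1
    rw [Ideal.mem_span_singleton']
    refine ⟨⟨_, hq⟩, Subtype.ext ?_⟩
    rw [MulMemClass.coe_mul, ht]
    have e1 : C (algebraMap k K c⁻¹) * divX p.1 * (C a * X) =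
        C (algebraMap k K c⁻¹ * a) * (X * divX p.1) := by rw [C_mul]; ring
    have e2 : algebraMap k K c⁻¹ * a = 1 := by
      rw [hc, ← map_mul, inv_mul_cancel₀ hc0, map_one]
    have e3 : X * divX p.1 = p.1 := by
      have := X_mul_divX_add p.1
      rwa [hp0, C_0, add_zero] at this
    rw [e1, e2, e3, C_1, one_mul]
  · rw [Ideal.span_le, Set.singleton_subset_iff, SetLike.mem_coe, RingHom.mem_ker,
      psi_eq_zero_iff]
    intro n
    rw [ht, coeff_C_mul_X]
    split_ifs with h
    · subst h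
      rw [hc, val_algebraMap P hc0, ← exp_zero, exp_lt_exp]
      norm_num
    · rw [map_zero]; exact exp_pos

end Ker

end Groth.Agent.Lib.Helper24.Sect
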