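import Groth.Agent.Lib.Helper24.Sect.Quot
import Groth.Agent.Lib.Helper18.FF.Weights

/-! # `R_P / t R_P` is the semigroup algebra of the Weierstrass semigroup (helper24) -/

set_option autoImplicit false

namespace Groth.Agent.Lib.Helper24.Sect

open FunFld WithZero Polynomial Groth.Agent.Lib.Helper18.FF W4c6gradedringsgw

universe u v

variable {k : Type u} {K : Type v} [Field k] [Field K] [Algebra k K]

section Semigroup

variable (hK : IsFunctionField k K) {P : Place k K} (hP : P.deg = 1)

include hK hP in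
theorem mem_poleOrders_iff (n : ℕ) : n ∈ poleOrders P ↔ ¬ IsGap P n := by
  classical
  unfold poleOrders
  rw [Set.mem_setOf_eq, smul_single_one, smul_single_one]
  cases n with
  | zero =>
    have e0 : (Finsupp.single P ((0 : ℕ) : ℤ) : Divisor k K) = 0 := by simp
    have hneg : L (Finsupp.single P (((0 : ℕ) : ℤ) - 1) : Divisor k K) = ⊥ :=
      L_eq_bot_of_deg_neg hK _ (by rw [deg_single, hP]; norm_num)
    rw [e0, ell_zero hK]
    unfold ell
    rw [hneg, finrank_bot]
    simp [not_isGap_zero hK P]
  | succ m =>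
    rw [ell_single_succ hK hP m]
    have e2 : (((m + 1 : ℕ) : ℤ) - 1) = (m : ℤ) := by push_cast; ring
    rw [e2]
    split_ifs with h <;> simp [h]

/-- The Weierstrass semigroup as an additive submonoid of `ℕ`. -/
def nonGap (hK : IsFunctionField k K) (P : Place k K) : AddSubmonoid ℕ where
  carrier := {n | ¬ IsGap P n}
  zero_mem' := not_isGap_zero hK P
  add_mem' := fun h h' => not_isGap_add h h'

include hP in
theorem closure_poleOrders : AddSubmonoid.closure (poleOrders P) = nonGap hK P := by
  have : poleOrders P = (nonGap hK P : Set ℕ) := Set.ext (mem_poleOrders_iff hK hP)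
  rw [this, AddSubmonoid.closure_eq]

include hK hP in
theorem mem_closure_iff (n : ℕ) : n ∈ AddSubmonoid.closure (poleOrders P) ↔ ¬ IsGap P n := by
  rw [closure_poleOrders hK hP]
  rfl

end Semigroup

section Theta

variable (k) in
/-- The inclusion of the semigroup algebra of a submonoid of `ℕ` into `k[X]`. -/
noncomputable def theta (M : AddSubmonoid ℕ) : AddMonoidAlgebra k M →ₐ[k] k[X] :=
  ((toFinsuppIsoAlg k).symm : AddMonoidAlgebra k ℕ →ₐ[k] k[X]).comp
    (AddMonoidAlgebra.mapDomainAlgHom k k M.subtype)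

theorem theta_single (M : AddSubmonoid ℕ) (m : M) (c : k) :
    theta k M (AddMonoidAlgebra.single m c) = monomial (m : ℕ) c := by
  rw [theta, AlgHom.comp_apply, AddMonoidAlgebra.mapDomainAlgHom_apply,
    AddMonoidAlgebra.mapDomain_single]
  show (toFinsuppIsoAlg k).symm _ = _
  rw [AlgEquiv.symm_apply_eq]
  show _ = (monomial (m : ℕ) c).toFinsupp
  rw [toFinsupp_monomial]
  rfl

theorem theta_injective (M : AddSubmonoid ℕ) : Function.Injective (theta k M) := by
  rw [theta]
  refine (toFinsuppIsoAlg k).symm.injective.comp ?_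
  intro x y h
  change AddMonoidAlgebra.mapDomain _ x = AddMonoidAlgebra.mapDomain _ y at h
  exact AddMonoidAlgebra.mapDomain_injective Subtype.val_injective h

end Theta

section Range

variable (hK : IsFunctionField k K) {P : Place k K} (hP : P.deg = 1) {π : K}
  (hπ : P.1 π = exp (-1 : ℤ))

include hπ in
theorem exists_lead_one {n : ℕ} (h : ¬ IsGap P n) :
    ∃ f ∈ L (Finsupp.single P (n : ℤ) : Divisor k K), lead hK hP π n f = 1 := by
  obtain ⟨f, hf, hfP⟩ := exists_of_not_isGap h
  have hu : lead hK hP π n f ≠ 0 := by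
    rw [Ne, lead_eq_zero_iff hK hP hπ hfP.le, hfP]
    exact lt_irrefl _
  refine ⟨(lead hK hP π n f)⁻¹ • f, Submodule.smul_mem _ _ hf, ?_⟩
  rw [lead_smul hK hP hπ _ hfP.le, inv_mul_cancel₀ hu]

include hπ in
theorem not_isGap_of_lead_ne_zero {n : ℕ} {f : K}
    (hf : f ∈ L (Finsupp.single P (n : ℤ) : Divisor k K)) (h : lead hK hP π n f ≠ 0) :
    ¬ IsGap P n := by
  have h1 := (mem_L_single.mp hf).1
  refine not_isGap_of_exists hf (le_antisymm h1 (not_lt.mp fun hlt => h ?_))
  exact (lead_eq_zero_iff hK hP hπ h1).mpr hlt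

theorem monomial_mem_sectRing {n : ℕ} {f : K}
    (hf : f ∈ L (Finsupp.single P (n : ℤ) : Divisor k K)) :
    monomial n f ∈ sectRing (Finsupp.single P 1 : Divisor k K) := by
  rw [mem_sectRing_iff]
  intro m
  rw [coeff_monomial]
  split_ifs with h
  · subst h; exact hf
  · exact Submodule.zero_mem _

include hπ in
theorem psi_monomial {n : ℕ} {f : K}
    (hf : f ∈ L (Finsupp.single P (n : ℤ) : Divisor k K)) :
    psi hK hP hπ ⟨monomial n f, monomial_mem_sectRing hf⟩ = monomial n (lead hK hP π n f) := by
  ext m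
  rw [coeff_psi, coeff_monomial, coeff_monomial]
  split_ifs with h
  · subst h; rfl
  · exact lead_zero_right hK hP m

include hπ in
theorem range_psi :
    (psi hK hP hπ).range = (theta k (AddSubmonoid.closure (poleOrders P))).range := by
  apply le_antisymm
  · rintro _ ⟨p, rfl⟩
    change psi hK hP hπ p ∈ _
    have hsum : psi hK hP hπ p =
        ∑ n ∈ p.1.support, monomial n (lead hK hP π n (p.1.coeff n)) := rfl
    rw [hsum]
    refine Subalgebra.sum_mem _ fun n _ => ?_
    by_cases h0 : lead hK hP π n (p.1.coeff n) = 0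
    · rw [h0, monomial_zero_right]; exact Subalgebra.zero_mem _
    · have hn : n ∈ AddSubmonoid.closure (poleOrders P) :=
        (mem_closure_iff hK hP n).mpr
          (not_isGap_of_lead_ne_zero hK hP hπ (mem_sectRing_iff.mp p.2 n) h0)
      exact ⟨AddMonoidAlgebra.single ⟨n, hn⟩ _, theta_single _ ⟨n, hn⟩ _⟩
  · rintro _ ⟨x, rfl⟩
    change theta k _ x ∈ _
    induction x using AddMonoidAlgebra.induction_linear with
    | zero => rw [map_zero]; exact Subalgebra.zero_mem _
    | add x y hx hy => rw [map_add]; exact Subalgebra.add_mem _ hx hy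
    | single m c =>
      obtain ⟨f, hf, hf1⟩ := exists_lead_one hK hP hπ ((mem_closure_iff hK hP m.1).mp m.2)
      refine ⟨⟨monomial (m : ℕ) (c • f), monomial_mem_sectRing (Submodule.smul_mem _ c hf)⟩, ?_⟩
      change psi hK hP hπ _ = theta k _ (AddMonoidAlgebra.single m c)
      rw [psi_monomial hK hP hπ (Submodule.smul_mem _ c hf), theta_single,
        lead_smul hK hP hπ c (mem_L_single.mp hf).1, hf1, mul_one]

include hK hP in
/-- **S18668, for a rational place.** -/
theorem prime_and_quotient_equiv (hg : 1 ≤ genus k K)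
    (t : sectRing (Finsupp.single P 1 : Divisor k K)) (a : K) (ha : a ≠ 0)
    (ht : (t : K[X]) = C a * X) :
    Prime t ∧ Nonempty ((sectRing (Finsupp.single P 1 : Divisor k K) ⧸ Ideal.span {t}) ≃ₐ[k]
      AddMonoidAlgebra k (AddSubmonoid.closure (poleOrders P))) := by
  obtain ⟨π, hπ⟩ := exists_uniformizer P
  have hker := ker_psi hK hP hπ hg t a ha ht
  have ht0 : t ≠ 0 := by
    rintro rfl
    have : (C a * X : K[X]).coeff 1 = 0 := by rw [← ht]; simp
    rw [coeff_C_mul_X, if_pos rfl] at this
    exact ha this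
  constructor
  · rw [← Ideal.span_singleton_prime ht0, ← hker]
    exact RingHom.ker_isPrime _
  · refine ⟨(Ideal.quotientEquivAlgOfEq k hker.symm).trans ?_⟩
    refine (Ideal.quotientKerEquivRange (psi hK hP hπ)).trans ?_
    refine (Subalgebra.equivOfEq _ _ (range_psi hK hP hπ)).trans ?_
    exact (AlgEquiv.ofInjective (theta k _) (theta_injective _)).symm

end Range

end Groth.Agent.Lib.Helper24.Sect
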